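/-
The orders of the elements of PSL₂ over the field with thirteen elements.
-/
import Mathlib
import Cfsg.Agent.Lib.Spectrum.SL2
import Cfsg.Agent.Lib.KnownSimple.PSLSpectrum
import Cfsg.Agent.Lib.Classical.GLOrder

set_option autoImplicit false

namespace CfsgLib.Spectrum.G2Three

open CfsgLib.KnownSimple

theorem trace_table : ∀ t : ZMod 13, ((sl2Coef t 6).1 = 0 ∧ (sl2Coef t 6).2 * (sl2Coef t 6).2 = 1) ∨
    ((sl2Coef t 7).1 = 0 ∧ (sl2Coef t 7).2 * (sl2Coef t 7).2 = 1) ∨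
    ((sl2Coef t 13).1 = 0 ∧ (sl2Coef t 13).2 * (sl2Coef t 13).2 = 1) := by
  decide +kernel

theorem trace_six : ∃ t : ZMod 13, ((sl2Coef t 6).1 = 0) ∧ ∀ k < 6, 0 < k → (sl2Coef t k).1 ≠ 0 := by
  decide +kernel

theorem sl2Coef_map {R S : Type*} [CommRing R] [CommRing S] (φ : R →+* S) (t : R) :
    ∀ n, sl2Coef (φ t) n = (φ (sl2Coef t n).1, φ (sl2Coef t n).2)
  | 0 => by simp [sl2Coef]
  | n + 1 => by simp [sl2Coef, sl2Coef_map φ t n]

variable {E : Type*} [Field E] [Fintype E]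

theorem exists_cast_thirteen (hE : Fintype.card E = 13) :
    ∃ ι : ZMod 13 →+* E, Function.Bijective ι := by
  haveI : Fact (Nat.Prime 13) := ⟨by norm_num⟩
  haveI : CharP E 13 := charP_of_card_eq_prime_pow (f := 1) (by rw [hE, pow_one])
  exact ⟨ZMod.castHom dvd_rfl E, (Fintype.bijective_iff_injective_and_card _).2
    ⟨(ZMod.castHom dvd_rfl E).injective, by rw [hE, ZMod.card]⟩⟩

theorem card_psl_thirteen (hE : Fintype.card E = 13) :
    Nat.card (Matrix.ProjectiveSpecialLinearGroup (Fin 2) E) = 1092 := by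
  have h := CfsgLib.Classical.card_PSL_mul hE 2 (by norm_num)
  simp only [Fin.prod_univ_two, Fin.val_zero, Fin.val_one] at h
  norm_num at h
  omega

theorem orderOf_dvd_of_trace (hE : Fintype.card E = 13)
    (x : Matrix.ProjectiveSpecialLinearGroup (Fin 2) E) :
    orderOf x ∣ 6 ∨ orderOf x ∣ 7 ∨ orderOf x ∣ 13 := by
  obtain ⟨ι, hι⟩ := exists_cast_thirteen hE
  obtain ⟨A, rfl⟩ := QuotientGroup.mk'_surjective _ x
  obtain ⟨t, ht⟩ := hι.2 (A : Matrix (Fin 2) (Fin 2) E).trace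
  have key : ∀ n, (sl2Coef t n).1 = 0 → orderOf (pslMk A) ∣ n := fun n h => by
    rw [orderOf_dvd_iff_pow_eq_one, pslMk_pow_eq_one_iff]
    refine ⟨(sl2Coef (A : Matrix (Fin 2) (Fin 2) E).trace n).2, ?_⟩
    rw [← Matrix.SpecialLinearGroup.coe_pow, sl2_pow_eq, ← ht, sl2Coef_map]
    simp [h]
  rcases trace_table t with h | h | h
  exacts [Or.inl (key 6 h.1), Or.inr (Or.inl (key 7 h.1)), Or.inr (Or.inr (key 13 h.1))]

theorem exists_order_six (hE : Fintype.card E = 13) :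
    ∃ x : Matrix.ProjectiveSpecialLinearGroup (Fin 2) E, orderOf x = 6 := by
  obtain ⟨ι, hι⟩ := exists_cast_thirteen hE
  obtain ⟨t, h6, hk⟩ := trace_six
  refine ⟨pslMk (sl2OfTrace (ι t)), (orderOf_eq_iff (by norm_num)).2 ⟨?_, fun k hk' hk0 he => ?_⟩⟩
  · rw [pslMk_pow_eq_one_iff]
    refine ⟨ι (sl2Coef t 6).2, ?_⟩
    rw [← Matrix.SpecialLinearGroup.coe_pow, sl2_pow_eq, sl2OfTrace_trace, sl2Coef_map]
    simp [h6]
  · obtain ⟨c, hc⟩ := (pslMk_pow_eq_one_iff _ _).1 he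
    rw [← Matrix.SpecialLinearGroup.coe_pow, sl2_pow_eq, sl2OfTrace_trace, sl2Coef_map] at hc
    have e := congrFun (congrFun hc 1) 0
    simp [sl2OfTrace] at e
    exact hk k hk' hk0 (hι.1 (by rw [e, map_zero]))

/-- The orders products of two primes of the elements of PSL₂(13). -/
theorem psl_orderOf_mul_iff (hE : Fintype.card E = 13) {r s : ℕ} (hr : r.Prime) (hs : s.Prime) (hne : r ≠ s) :
    (∃ y : Matrix.ProjectiveSpecialLinearGroup (Fin 2) E, orderOf y = r * s) ↔ r * s = 6 := by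
  constructor
  · rintro ⟨y, hy⟩
    have hr2 := hr.two_le
    have hs2 := hs.two_le
    have hnp : ∀ p : ℕ, p.Prime → ¬ r * s ∣ p := fun p hp hd => by
      rcases (Nat.dvd_prime hp).1 hd with h | h
      · nlinarith
      · exact Nat.not_prime_mul (by omega) (by omega) (h ▸ hp)
    rcases orderOf_dvd_of_trace hE y with h | h | h <;> rw [hy] at h
    · have h6 := Nat.le_of_dvd (by norm_num) h
      have : r ≤ 3 := by nlinarith
      have : s ≤ 3 := by nlinarith
      interval_cases r <;> interval_cases s <;> omega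
    · exact absurd h (hnp 7 (by norm_num))
    · exact absurd h (hnp 13 (by norm_num))
  · intro h
    obtain ⟨y, hy⟩ := exists_order_six hE
    exact ⟨y, by rw [hy, h]⟩

end CfsgLib.Spectrum.G2Three
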